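import Cfsg.Agent.H38.TenB
import Cfsg.Agent.H57.E32

/-! Project PAR (S2198): the extraspecial group of the involution centraliser of `J3` does not lie
in the extraspecial group of the Monster. -/

set_option autoImplicit false
set_option maxRecDepth 100000

namespace Cfsg.Agent.PAR

open Subgroup H15 H97 H38.MT

universe u

variable {G : Type u} [Group G] [Finite G] {z : G} {Q : Subgroup G}
  {π : centralizer ({z} : Set G) →* Spor.Co1} {R : G → leechLattice → Prop}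

theorem j3a_core8 (M : MD z Q π R) {g : G} (h8 : R (g * z * g⁻¹) (e8 none)) {r b1 b2 : G}
    (hr : r ∈ Q) (hrs : r * (g * z * g⁻¹) ≠ g * z * g⁻¹ * r) (hb1 : b1 ∈ cjs g Q)
    (hz1 : b1 * z = z * b1) (hb2 : b2 ∈ cjs g Q) (hz2 : b2 * z = z * b2) :
    ¬ R (r * (b1 * r⁻¹ * b1⁻¹) * (b2 * (r * (b1 * r⁻¹ * b1⁻¹))⁻¹ * b2⁻¹)) (e8 none) := by
  classical
  intro h
  obtain ⟨v, hv⟩ := M.ex r hr
  obtain ⟨d1, hd1, o1⟩ := exists_sign M h8 hb1 hz1
  obtain ⟨d2, hd2, o2⟩ := exists_sign M h8 hb2 hz2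
  have odd : ∀ i, (v : Vec) i % 2 = 1 := by
    rcases parity_cases v.2 with h1 | h1
    · exact absurd ((comm_s M h8 hv).2 (h1.1 none)) hrs
    · exact h1.1
  have h1 := M.mul hv (o1.lab M (M.inv hv))
  have h2 := M.mul h1 (o2.lab M (M.inv (M.neg h1)))
  obtain ⟨w, hw⟩ := M.congr h2 h
  have hw' : ∀ i, (w : Vec) i =
      (if i = none then 4 else 0) - 2 * if i ∈ d2 \ d1 then (v : Vec) i else 0 := fun i => by
    have := congrFun (congrArg Subtype.val hw) i
    simp only [AddSubgroup.coe_add, Pi.add_apply, signC_apply, AddSubgroup.coe_neg, Pi.neg_apply,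
      e8_val, Pi.single_apply, Finset.mem_sdiff] at this ⊢
    have e48 : (if i = none then (8 : ℤ) else 0) = 2 * if i = none then 4 else 0 := by
      split_ifs <;> rfl
    rw [e48] at this
    by_cases a1 : i ∈ d1 <;> by_cases a2 : i ∈ d2 <;>
      simp only [a1, a2, if_true, if_false, not_true, not_false_iff, and_true, and_false]
        at this ⊢ <;> omega
  have hc : tw w = d2 \ d1 := by
    ext i
    rw [mem_tw, hw' i]
    have := odd i
    by_cases a : i ∈ d2 \ d1 <;> simp only [a, if_true, if_false, iff_true, iff_false] <;>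
      split_ifs <;> omega
  have hcw : IsCw (d2 \ d1) := hc ▸ tw_cw w
  have e1 := eight_dvd_dot v.2 (vTwo_mem hcw)
  rw [dot_vTwo] at e1
  have e2 : ∑ i, (w : Vec) i = 4 - 2 * ∑ i ∈ d2 \ d1, (v : Vec) i := by
    simp only [hw', Finset.sum_sub_distrib, ← Finset.mul_sum, Finset.sum_ite_mem, Finset.univ_inter,
      Finset.sum_ite_eq', Finset.mem_univ, if_true]
  rcases parity_cases w.2 with h3 | h3
  · omega
  · have := h3.1 none
    rw [hw'] at this
    split_ifs at this <;> omega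

/-- a triple commutator of an element of `Q` with two elements of a neighbouring conjugate -/
theorem j3a_core (M : MD z Q π R) {g : G} (hs : g * z * g⁻¹ ∈ Q) (hne : g * z * g⁻¹ ≠ z)
    {r b1 b2 c : G} (hr : r ∈ Q) (hrs : r * (g * z * g⁻¹) ≠ g * z * g⁻¹ * r) (hb1 : b1 ∈ cjs g Q)
    (hz1 : b1 * z = z * b1) (hb2 : b2 ∈ cjs g Q) (hz2 : b2 * z = z * b2)
    (hc : c * (b1 * r) = r * b1) :
    c * b2 ≠ g * z * g⁻¹ * (b2 * c) ∧ c * b2 ≠ z * (g * z * g⁻¹) * (b2 * c) := by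
  obtain ⟨k, hk⟩ := M.exists_twist hs hne
  have h := j3a_core8 (M.twist k) hk hr hrs hb1 hz1 hb2 hz2
  have e : r * (b1 * r⁻¹ * b1⁻¹) = c := by
    rw [eq_mul_inv_of_mul_eq hc]; group
  rw [e] at h
  have e2 : c * (b2 * c⁻¹ * b2⁻¹) = c * b2 * (b2 * c)⁻¹ := by group
  rw [e2] at h
  refine ⟨fun h1 => h ?_, fun h1 => h ?_⟩
  · rw [h1, mul_inv_cancel_right]; exact hk
  · rw [h1, mul_inv_cancel_right]; exact M.zmul hk

section Model

open Cfsg.Agent.H14 Cfsg.Agent.H56 H57.E32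

theorem j3a_sq_z {a : H57.E32.H} (h : a * a = H57.E32.z) : a ∈ H57.E32.Q := by
  have h1 := chainH.forall_of_allElts (f := fun P =>
    bimp (Nat.beq (comp (nat_lit 5) (nat_lit 32) (nat_lit 32) P P) zP)
      (sift (nat_lit 5) (nat_lit 32) (nat_lit 32) qcL P)) (by decide +kernel) a a.2
  rw [bimp_iff, H14.beq_iff] at h1
  exact mem_Q.2 (h1 (by rw [← E.pk_mul, ← Subgroup.coe_mul, h, pk_z]))

theorem j3a_elts : ∃ r ∈ H57.E32.Q, ∃ b1 b2 c : H57.E32.H, r * H57.E32.t ≠ H57.E32.t * r ∧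
    b1 * b1 = H57.E32.t ∧ b2 * b2 = H57.E32.t ∧ c * (b1 * r) = r * b1 ∧
    c * b2 = H57.E32.z * H57.E32.t * (b2 * c) := by
  have p1 := pk_el (P := nat_lit 0xed7eb3bd31443ca33b16d4862e5337dcc206b0a4) (by decide +kernel)
  have p2 := pk_el (P := nat_lit 0x21738a579d08f7a008d143ffe635c981d6abced2) (by decide +kernel)
  have p3 := pk_el (P := nat_lit 0x320239caf6c6402d6dbf678e9740ab229f1ed794) (by decide +kernel)
  have p4 := pk_el (P := nat_lit 0x41a7208c02ef2f6ad1aa62df1838be27ce9c6b3b) (by decide +kernel)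
  generalize el (nat_lit 0xed7eb3bd31443ca33b16d4862e5337dcc206b0a4) = r at p1
  generalize el (nat_lit 0x21738a579d08f7a008d143ffe635c981d6abced2) = b1 at p2
  generalize el (nat_lit 0x320239caf6c6402d6dbf678e9740ab229f1ed794) = b2 at p3
  generalize el (nat_lit 0x41a7208c02ef2f6ad1aa62df1838be27ce9c6b3b) = c at p4
  refine ⟨r, mem_Q.2 (by rw [p1]; decide +kernel), b1, b2, c, ?_, ?_, ?_, ?_, ?_⟩ <;>
    simp only [ne_eq, ← pk_inj', Subgroup.coe_mul, E.pk_mul, p1, p2, p3, p4, pk_t, pk_z] <;>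
    decide +kernel

theorem j3a_t_ne_z : H57.E32.t ≠ H57.E32.z := by
  rw [ne_eq, ← pk_inj', pk_t, pk_z]
  decide +kernel

end Model

/-- CASE I: the extraspecial subgroup of the `J3` centraliser does not lie in `Q` -/
theorem caseI (M : MD z Q π R) (ι : H57.E32.H →* G) (inj : Function.Injective ι)
    (hz : ι H57.E32.z = z) (hQ : ∀ a ∈ H57.E32.Q, ι a ∈ Q) {g : G}
    (hg : g * z * g⁻¹ = ι H57.E32.t)
    (hfus : ∀ x : H57.E32.H, x * x = H57.E32.t → ∃ a, g⁻¹ * ι x * g = ι a) : False := by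
  obtain ⟨r, hr, b1, b2, c, h1, h2, h3, h4, h5⟩ := j3a_elts
  have mem : ∀ x : H57.E32.H, x * x = H57.E32.t → ι x ∈ cjs g Q := fun x hx => by
    obtain ⟨a, ha⟩ := hfus x hx
    rw [mem_cjs, ha]
    refine hQ a (j3a_sq_z (inj ?_))
    rw [map_mul, ← ha, hz, show g⁻¹ * ι x * g * (g⁻¹ * ι x * g) = g⁻¹ * (ι x * ι x) * g by group,
      ← map_mul, hx, ← hg]
    group
  have cz : ∀ x : H57.E32.H, ι x * z = z * ι x := fun x => by
    rw [← hz, ← map_mul, ← map_mul, H57.E32.z_comm]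
  refine (j3a_core M (g := g) (hg ▸ hQ _ H57.E32.t_mem)
    (fun e => j3a_t_ne_z (inj (by rw [← hg, e, hz]))) (hQ r hr)
    (fun e => h1 (inj (by rw [map_mul, map_mul, ← hg, e]))) (mem b1 h2) (cz b1) (mem b2 h3) (cz b2)
    (c := ι c) (by rw [← map_mul, ← map_mul, h4, map_mul])).2 ?_
  rw [hg, ← hz, ← map_mul, ← map_mul, ← map_mul, ← map_mul, h5]

end Cfsg.Agent.PAR
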