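import Cfsg.Agent.PAR.Rho

/-! Project PAR: idempotent matrices, the determinant on the range. -/

set_option autoImplicit false
set_option linter.unusedSectionVars false

namespace Cfsg.Agent.PAR.Lin0

open Matrix

variable {F : Type*} [Field F]

/-- the determinant on the range of an idempotent -/
theorem exists_det {P : Matrix GolayPt GolayPt F} (h : P * P = P) :
    ∃ (m : ℕ) (δ : Matrix GolayPt GolayPt F → F), trace P = m ∧
      (∀ g k, k * P = P * k → δ (g * k) = δ g * δ k) ∧ ∀ g c, g * P = c • P → δ g = c ^ m := by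
  let W := LinearMap.range (toLin' P)
  let f : Matrix GolayPt GolayPt F → W →ₗ[F] W := fun g =>
    (toLin' (P * g)).restrict fun x _ => ⟨toLin' g x, by rw [toLin'_mul, LinearMap.comp_apply]⟩
  have hf : ∀ g (x : W), (f g x).1 = toLin' (P * g) x := fun _ _ => rfl
  refine ⟨Module.finrank F W, fun g => LinearMap.det (f g), trace_idem h, fun g k hk => ?_, fun g c hc => ?_⟩
  · refine Eq.trans (congrArg LinearMap.det ?_) (map_mul LinearMap.det (f g) (f k))
    ext1 ⟨_, x, rfl⟩
    refine Subtype.ext ?_
    rw [Module.End.mul_apply, hf, hf, hf]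
    simp only [← LinearMap.comp_apply, ← toLin'_mul]
    simp only [mul_assoc, hk]
    rw [← mul_assoc P P, h]
  · have : f g = c • LinearMap.id := by
      ext1 ⟨_, x, rfl⟩
      refine Subtype.ext ?_
      rw [hf]
      simp only [← LinearMap.comp_apply, ← toLin'_mul, mul_assoc, hc, mul_smul_comm, h]
      simp
    simp only [this, LinearMap.det_smul, LinearMap.det_id, mul_one]

variable {R : Type*} [Ring R] [Algebra F R] [CharZero F]

theorem abs2 {X : R} (h : X * X = 1) : X * ((1 / 2 : F) • (1 + X)) = (1 / 2 : F) • (1 + X) := by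
  rw [mul_smul_comm, mul_add, h, mul_one, add_comm]

theorem idem2 {X : R} (h : X * X = 1) : IsIdempotentElem ((1 / 2 : F) • (1 + X)) := by
  rw [IsIdempotentElem, smul_mul_assoc, add_mul, abs2 h, one_mul, ← two_smul F, smul_smul]
  norm_num

theorem abs3 {P X : R} (h1 : X * P = X) (h3 : X * (X * X) = P) :
    X * ((1 / 3 : F) • (P + X + X * X)) = (1 / 3 : F) • (P + X + X * X) := by
  rw [mul_smul_comm, mul_add, mul_add, h1, h3]
  congr 1
  abel

theorem idem3 {P X : R} (hP : P * P = P) (h1 : X * P = X) (h2 : P * X = X) (h3 : X * (X * X) = P) :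
    IsIdempotentElem ((1 / 3 : F) • (P + X + X * X)) := by
  have h4 : P * ((1 / 3 : F) • (P + X + X * X)) = (1 / 3 : F) • (P + X + X * X) := by
    rw [mul_smul_comm, mul_add, mul_add, ← mul_assoc, hP, h2]
  rw [IsIdempotentElem, smul_mul_assoc, add_mul, add_mul, mul_assoc, abs3 h1 h3, abs3 h1 h3, h4]
  module

theorem comm2 {X Y : R} (h : Commute Y X) : Commute Y ((1 / 2 : F) • (1 + X)) :=
  ((Commute.one_right Y).add_right h).smul_right _

theorem comm3 {P X Y : R} (hP : Commute Y P) (h : Commute Y X) : Commute Y ((1 / 3 : F) • (P + X + X * X)) :=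
  ((hP.add_right h).add_right (h.mul_right h)).smul_right _

end Cfsg.Agent.PAR.Lin0
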