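import Cfsg.Agent.MON.CmB
import Cfsg.Agent.CO1.Co1Inv

/-! Project PAR: the rational matrix and the trace of an element of `Co0`. -/

set_option autoImplicit false

namespace Cfsg.Agent.PAR

open Subgroup H15 Matrix

/-- the rational matrix of `g` -/
def mat (g : Co0) : Matrix GolayPt GolayPt ℚ := fun i j => (((g • e8 j : leechLattice) : Vec) i : ℚ) / 8

/-- a lattice vector as a rational vector -/
def vq (v : leechLattice) : GolayPt → ℚ := fun i => ((v : Vec) i : ℚ)

theorem mat_mulVec (g : Co0) (v : leechLattice) : mat g *ᵥ vq v = vq (g • v) := by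
  funext j
  have h : (8 : ℚ) * vq (g • v) j = ∑ i, vq v i * (((g • e8 i : leechLattice) : Vec) j : ℚ) := by
    simp only [vq]; exact_mod_cast eight_mul_smul_apply g v j
  have e : vq (g • v) j = (∑ i, vq v i * (((g • e8 i : leechLattice) : Vec) j : ℚ)) / 8 := by
    rw [← h]; ring
  rw [e, Finset.sum_div]
  simp only [mulVec, dotProduct, mat]
  exact Finset.sum_congr rfl fun i _ => by ring

theorem vq_e8 (j : GolayPt) : vq (e8 j) = Pi.single j 8 := by
  funext i
  by_cases h : i = j
  · subst h; simp [vq, e8_val]
  · simp [vq, e8_val, h]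

/-- a matrix is determined by its values on the lattice -/
theorem mat_ext {A B : Matrix GolayPt GolayPt ℚ} (h : ∀ v, A *ᵥ vq v = B *ᵥ vq v) : A = B := by
  ext i j
  have := congrFun (h (e8 j)) i
  rw [vq_e8, mulVec_single, mulVec_single] at this
  simpa using this

theorem vq_add (v w : leechLattice) : vq (v + w) = vq v + vq w := by
  funext i; simp [vq]

theorem vq_neg (v : leechLattice) : vq (-v) = -vq v := by
  funext i; simp [vq]

theorem vq_zero : vq 0 = 0 := by
  funext i; simp [vq]

theorem vq_inj {v w : leechLattice} (h : vq v = vq w) : v = w :=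
  Subtype.ext (funext fun i => by simpa [vq] using congrFun h i)

/-- the 24-dimensional rational representation -/
def rho : Co0 →* Matrix GolayPt GolayPt ℚ where
  toFun := mat
  map_one' := mat_ext fun v => by rw [mat_mulVec, one_smul, one_mulVec]
  map_mul' g h := mat_ext fun v => by rw [← mulVec_mulVec, mat_mulVec, mat_mulVec, mat_mulVec, mul_smul]

theorem rho_apply (g : Co0) (i j : GolayPt) :
    rho g i j = (((g • e8 j : leechLattice) : Vec) i : ℚ) / 8 := rfl

theorem rho_mulVec (g : Co0) (v : leechLattice) : rho g *ᵥ vq v = vq (g • v) := mat_mulVec g v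

theorem rho_inj : Function.Injective rho := fun g h e =>
  co0_ext fun v => vq_inj (by rw [← rho_mulVec, ← rho_mulVec, e])

theorem rho_negC : rho negC = -1 :=
  mat_ext fun v => by rw [rho_mulVec, negC_smul, vq_neg, neg_mulVec, one_mulVec]

theorem rho_inv (g : Co0) : rho g⁻¹ = (rho g)ᵀ := by
  ext i j
  have h := H26.CoInv.dot_inv g (e8 i) (e8 j)
  simp only [dotInt, e8_val, Pi.single_apply, mul_ite, ite_mul, mul_zero, zero_mul,
    Finset.sum_ite_eq', Finset.mem_univ, if_true] at h
  rw [transpose_apply, rho_apply, rho_apply]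
  have : ((g⁻¹ • e8 j : leechLattice) : Vec) i = ((g • e8 i : leechLattice) : Vec) j := by omega
  rw [this]

/-- the trace on the Leech lattice -/
def tr (g : Co0) : ℚ := trace (rho g)

theorem tr_one : tr 1 = 24 := by simp [tr]

theorem tr_neg (g : Co0) : tr (negC * g) = -tr g := by simp [tr, rho_negC]

theorem tr_negC : tr negC = -24 := by simpa [tr_one] using tr_neg 1

theorem tr_comm (g h : Co0) : tr (g * h) = tr (h * g) := by
  simp only [tr, map_mul]; exact trace_mul_comm _ _

theorem tr_conj (k g : Co0) : tr (k * g * k⁻¹) = tr g := by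
  rw [tr_comm, ← mul_assoc, inv_mul_cancel, one_mul]

theorem tr_isConj {g h : Co0} (e : IsConj g h) : tr g = tr h := by
  obtain ⟨k, rfl⟩ := isConj_iff.1 e
  exact (tr_conj k g).symm

theorem tr_inv (g : Co0) : tr g⁻¹ = tr g := by simp [tr, rho_inv]

theorem rho_mono (σ : M24) (c : Finset GolayPt) (hc : IsCw c) (i j : GolayPt) :
    rho (signC c hc * permC σ) i j =
      if i = (σ : Equiv.Perm GolayPt) j then (if i ∈ c then -1 else 1) else 0 := by
  rw [rho_apply, mono_smul_e8]
  by_cases h : i = (σ : Equiv.Perm GolayPt) j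
  · subst h; by_cases h' : (σ : Equiv.Perm GolayPt) j ∈ c <;> simp [h']
  · simp [h]

theorem tr_mono (σ : M24) (c : Finset GolayPt) (hc : IsCw c) :
    tr (signC c hc * permC σ) =
      ∑ i, if (σ : Equiv.Perm GolayPt) i = i then (if i ∈ c then -1 else 1) else 0 := by
  simp only [tr, trace, diag_apply, rho_mono, eq_comm]

theorem tr_signC (c : Finset GolayPt) (hc : IsCw c) : tr (signC c hc) = 24 - 2 * c.card := by
  have h := tr_mono 1 c hc
  rw [permC_one, mul_one] at h
  have e : ∀ i : GolayPt, (if i ∈ c then (-1 : ℚ) else 1) = 1 - 2 * if i ∈ c then 1 else 0 := fun i => by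
    split_ifs <;> norm_num
  simp only [h, OneMemClass.coe_one, Equiv.Perm.one_apply, if_true, e, Finset.sum_sub_distrib,
    ← Finset.mul_sum]
  simp

/-- the traces of the involutions -/
theorem tr_inv_cases {g : Co0} (h : g * g = 1) (h1 : g ≠ 1) (h2 : g ≠ negC) :
    tr g = 8 ∨ tr g = 0 ∨ tr g = -8 := by
  obtain ⟨c, hc, e⟩ := H26.CoInv.isConj_signC h
  rw [tr_isConj e, tr_signC]
  rcases hc.card_cases with k | k | k | k | k
  · rw [Finset.card_eq_zero] at k
    subst k
    exact absurd (isConj_one_left.1 (signC_empty ▸ e)) h1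
  · left; rw [k]; norm_num
  · right; left; rw [k]; norm_num
  · right; right; rw [k]; norm_num
  · have : c = Finset.univ := Finset.eq_univ_of_card _ (k.trans card_pt.symm)
    subst this
    obtain ⟨a, ha⟩ := isConj_iff.1 e.symm
    exact absurd (by rw [← ha, show signC Finset.univ hc = negC from rfl, negC_comm]; simp) h2

/-- the trace of an idempotent is its rank -/
theorem trace_idem {F : Type*} [Field F] {E : Matrix GolayPt GolayPt F} (h : E * E = E) :
    trace E = (Module.finrank F (LinearMap.range (toLin' E)) : F) := by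
  have p : LinearMap.IsProj (LinearMap.range (toLin' E)) (toLin' E) :=
    ⟨fun x => ⟨x, rfl⟩, by
      rintro _ ⟨x, rfl⟩
      rw [← LinearMap.comp_apply, ← toLin'_mul, h]⟩
  rw [← p.trace, trace_toLin'_eq]

/-- an element without non-zero fixed vectors modulo two -/
def Fpf (g : Co0) : Prop := ∀ v w : leechLattice, g • v = v + (w + w) → ∃ u, v = u + u

theorem Fpf.eq_zero {g : Co0} (h : Fpf g) {v : leechLattice} (hv : g • v = v) : v = 0 := by
  have key : ∀ n : ℕ, ∀ v : leechLattice, g • v = v → sqNorm (v : Vec) ≤ n → v = 0 := by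
    intro n
    induction n with
    | zero =>
      intro v _ k
      by_contra e
      have := min_norm v.2 (fun e' => e (Subtype.ext e'))
      omega
    | succ n ih =>
      intro v hv k
      obtain ⟨u, rfl⟩ := h v 0 (by simp [hv])
      have hu : g • u = u := by
        rw [co0_smul_add] at hv
        refine Subtype.ext (funext fun i => ?_)
        have := congrFun (congrArg Subtype.val hv) i
        simp only [AddSubgroup.coe_add, Pi.add_apply] at this
        omega
      by_cases e : u = 0
      · simp [e]
      have m := min_norm u.2 (fun e' => e (Subtype.ext e'))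
      rw [AddSubgroup.coe_add, sqNorm_add, dot_self] at k
      exact absurd (ih u hu (by omega)) e
  have h0 : 0 ≤ sqNorm (v : Vec) := Finset.sum_nonneg fun i _ => sq_nonneg _
  exact key (sqNorm (v : Vec)).toNat v hv (by omega)

theorem Fpf.sum_eq_zero {g : Co0} (h : Fpf g) {n : ℕ} (hn : g ^ n = 1) :
    ∑ j ∈ Finset.range n, rho (g ^ j) = 0 := by
  refine mat_ext fun v => ?_
  have e : g • (∑ j ∈ Finset.range n, g ^ j • v) = ∑ j ∈ Finset.range n, g ^ j • v := by
    have := Finset.sum_range_succ (fun j => g ^ j • v) n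
    rw [Finset.sum_range_succ', hn, pow_zero, add_left_inj] at this
    rw [co0_smul_sum, ← this]
    exact Finset.sum_congr rfl fun j _ => by rw [pow_succ', mul_smul]
  have e2 : ∀ s : Finset ℕ, (∑ j ∈ s, rho (g ^ j)) *ᵥ vq v = vq (∑ j ∈ s, g ^ j • v) := fun s => by
    induction s using Finset.induction_on with
    | empty => simp [vq_zero]
    | insert a s ha ih => rw [Finset.sum_insert ha, Finset.sum_insert ha, add_mulVec, ih, vq_add, rho_mulVec]
  rw [e2, h.eq_zero e, vq_zero, zero_mulVec]

/-- an element all of whose products with powers of a fixed-point-free `g` are conjugate has trace zero -/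
theorem Fpf.tr_eq_zero {g c : Co0} (h : Fpf g) {n : ℕ} (h0 : n ≠ 0) (hn : g ^ n = 1)
    (hc : ∀ j, IsConj c (c * g ^ j)) : tr c = 0 := by
  have e : ∑ j ∈ Finset.range n, tr (c * g ^ j) = 0 := by
    simp only [tr, map_mul]
    rw [← trace_sum, ← Finset.mul_sum, h.sum_eq_zero hn, mul_zero, trace_zero]
  simp only [← tr_isConj (hc _), Finset.sum_const, Finset.card_range, nsmul_eq_mul] at e
  exact (mul_eq_zero.1 e).resolve_left (by exact_mod_cast h0)

end Cfsg.Agent.PAR
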